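import Mathlib
import Groth.Agent.Lib.Helper1.DimIneqC

set_option autoImplicit false
universe u

namespace Groth.Agent.H8.Abh

open Cardinal

theorem main (A : Type u) [CommRing A] [IsDomain A] [IsNoetherianRing A] [IsLocalRing A]
    (O : Type u) [CommRing O] [IsDomain O] [ValuationRing O] [Algebra A O]
    (hinj : Function.Injective (algebraMap A O)) (hloc : IsLocalHom (algebraMap A O))
    (hfrac : ∀ x : O, ∃ a b : A, b ≠ 0 ∧ algebraMap A O b * x = algebraMap A O a)
    (hnt : ¬ IsField O) (n : ℕ) (f : Fin n → O)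
    (hind : ∀ p : MvPolynomial (Fin n) A,
      MvPolynomial.eval₂ ((IsLocalRing.residue O).comp (algebraMap A O)) (fun i => IsLocalRing.residue O (f i)) p = 0 →
      ∀ m : Fin n →₀ ℕ, IsLocalRing.residue A (p.coeff m) = 0) :
    (n : WithBot ℕ∞) + 1 ≤ ringKrullDim A := by
  classical
  -- the subalgebra
  let S : Subalgebra A O := Algebra.adjoin A (Set.range f)
  have hfS : ∀ i, f i ∈ S := fun i => Algebra.subset_adjoin ⟨i, rfl⟩
  let g : Fin n → S := fun i => ⟨f i, hfS i⟩
  haveI : FaithfulSMul A S := by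
    rw [faithfulSMul_iff_algebraMap_injective]
    intro a b hab
    apply hinj
    exact congrArg Subtype.val hab
  haveI : Algebra.FiniteType A S :=
    (Subalgebra.fg_iff_finiteType S).1 ⟨(Finset.univ.image f), by
      rw [Finset.coe_image, Finset.coe_univ, Set.image_univ]⟩
  let p : Ideal A := IsLocalRing.maximalIdeal A
  let q : Ideal S := (IsLocalRing.maximalIdeal O).comap S.val.toRingHom
  haveI hq : q.IsPrime := Ideal.comap_isPrime _ _
  haveI : q.LiesOver p := by
    constructor
    ext a
    rw [Ideal.under_def, Ideal.mem_comap, Ideal.mem_comap]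
    show a ∈ IsLocalRing.maximalIdeal A ↔ algebraMap A O a ∈ IsLocalRing.maximalIdeal O
    rw [IsLocalRing.mem_maximalIdeal, IsLocalRing.mem_maximalIdeal, mem_nonunits_iff,
      mem_nonunits_iff]
    exact ⟨fun h hu => h (hloc.map_nonunit a hu), fun h hu => h (hu.map _)⟩
  have hdim := Groth.Agent.H1.DimIneq.dimIneq A S p q
  -- trdeg A S = 0
  have halg : Algebra.IsAlgebraic A S := by
    refine ⟨fun x => ?_⟩
    obtain ⟨a, b, hb, hab⟩ := hfrac (x : O)
    refine ⟨Polynomial.C b * Polynomial.X - Polynomial.C a, ?_, ?_⟩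
    · intro h
      have := congrArg (fun P => Polynomial.coeff P 1) h
      simp at this
      exact hb this
    · rw [map_sub, map_mul, Polynomial.aeval_C, Polynomial.aeval_C, Polynomial.aeval_X]
      apply Subtype.ext
      simpa [sub_eq_zero] using hab
  have htr0 : Algebra.trdeg A S = 0 := _root_.trdeg_eq_zero_iff.mpr halg
  -- algebraic independence of the residues
  have hAI : AlgebraicIndependent (A ⧸ p) (fun i => Ideal.Quotient.mk q (g i)) := by
    rw [algebraicIndependent_iff]
    intro P hP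
    obtain ⟨P', rfl⟩ := MvPolynomial.map_surjective (Ideal.Quotient.mk p) Ideal.Quotient.mk_surjective P
    have h1 : MvPolynomial.aeval (fun i => Ideal.Quotient.mk q (g i)) (MvPolynomial.map (Ideal.Quotient.mk p) P') =
        Ideal.Quotient.mk q (MvPolynomial.aeval g P') := by
      rw [MvPolynomial.aeval_def, MvPolynomial.eval₂_map, MvPolynomial.aeval_def,
        MvPolynomial.eval₂_comp_left (Ideal.Quotient.mk q)]
      congr 1
    rw [h1, Ideal.Quotient.eq_zero_iff_mem] at hP
    have h2 : ((MvPolynomial.aeval g P' : S) : O) ∈ IsLocalRing.maximalIdeal O := hP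
    have h3 : ((MvPolynomial.aeval g P' : S) : O) = MvPolynomial.aeval f P' := by
      have := MvPolynomial.comp_aeval_apply (f := g) S.val P'
      simpa [g] using this
    rw [h3, ← IsLocalRing.residue_eq_zero_iff, MvPolynomial.aeval_def,
      MvPolynomial.eval₂_comp_left (IsLocalRing.residue O)] at h2
    have h4 := hind P' h2
    ext m
    rw [MvPolynomial.coeff_map, MvPolynomial.coeff_zero]
    exact Ideal.Quotient.eq_zero_iff_mem.mpr ((IsLocalRing.residue_eq_zero_iff _).mp (h4 m))
  have htr : (n : Cardinal.{u}) ≤ Algebra.trdeg (A ⧸ p) (S ⧸ q) := by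
    have := hAI.lift_cardinalMk_le_trdeg
    simpa using this
  -- height of q
  have hAnf : ¬ IsField A := by
    intro hA
    apply hnt
    refine ⟨⟨0, 1, zero_ne_one⟩, mul_comm, ?_⟩
    intro x hx
    obtain ⟨a, b, hb, hab⟩ := hfrac x
    have ha : a ≠ 0 := by
      rintro rfl
      rw [map_zero] at hab
      rcases mul_eq_zero.mp hab with h | h
      · exact hb (hinj (by rw [h, map_zero]))
      · exact hx h
    obtain ⟨c, hc⟩ := hA.mul_inv_cancel ha
    refine ⟨algebraMap A O b * algebraMap A O c, ?_⟩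
    rw [← mul_assoc, mul_comm x, hab, ← map_mul, hc, map_one]
  have hqpos : (1 : ℕ∞) ≤ q.height := by
    rw [Order.one_le_iff_pos, pos_iff_ne_zero, Ne, Ideal.height_eq_zero_iff]
    intro hmin
    have hbot : q = ⊥ := by
      rw [IsDomain.minimalPrimes_eq_singleton_bot] at hmin
      exact hmin
    obtain ⟨a, ha, ha0⟩ : ∃ a ∈ IsLocalRing.maximalIdeal A, a ≠ 0 := by
      by_contra hcon
      push Not at hcon
      apply hAnf
      rw [IsLocalRing.isField_iff_maximalIdeal_eq]
      exact eq_bot_iff.mpr fun a ha => hcon a ha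
    have : algebraMap A S a ∈ q := by
      have h1 : (algebraMap A S a) ∈ Ideal.map (algebraMap A S) p := Ideal.mem_map_of_mem _ ha
      exact Ideal.map_le_iff_le_comap.mpr (le_of_eq (Ideal.LiesOver.over (p := p) (P := q))) h1
    rw [hbot, Ideal.mem_bot] at this
    exact ha0 (FaithfulSMul.algebraMap_injective A S (by rw [this, map_zero]))
  -- conclude
  rw [htr0, add_zero] at hdim
  have h5 : ((1 : ℕ∞) : Cardinal.{u}) + (n : Cardinal.{u}) ≤ (p.height : Cardinal.{u}) :=
    le_trans (add_le_add (Cardinal.ofENat_le_ofENat_of_le hqpos) htr) hdim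
  have h6 : ((n + 1 : ℕ) : ℕ∞) ≤ p.height := by
    have : (((n + 1 : ℕ) : ℕ∞) : Cardinal.{u}) ≤ (p.height : Cardinal.{u}) := by
      refine le_trans (le_of_eq ?_) h5
      simp [add_comm]
    exact Cardinal.ofENat_le_ofENat.mp this
  rw [← IsLocalRing.maximalIdeal_height_eq_ringKrullDim]
  have : ((n : WithBot ℕ∞) + 1) = (((n + 1 : ℕ) : ℕ∞) : WithBot ℕ∞) := by
    push_cast; rfl
  rw [this]
  exact WithBot.coe_le_coe.mpr h6

end Groth.Agent.H8.Abh
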